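import Mathlib
import Cfsg.Prelude.Def_ClassicalGeometry
import Cfsg.Prelude.Def_GeometricClasses

/-!
helper5, S5858 (subfield conjunct at n = 11): the determinant of an involution is `(-1) ^ dim V_-`, members of
`omegaGL` have determinant one, so involutions of `Ω` have an even-dimensional `(-1)`-eigenspace (characteristic not 2).
-/

set_option autoImplicit false
set_option linter.unusedSectionVars false
set_option linter.unusedVariables false

namespace Cfsg.Agent.Lib.Helper5.F11.Par
open Module

/-- the determinant of an involutive endomorphism, characteristic not two -/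
theorem det_of_involutive {F V : Type*} [Field F] [AddCommGroup V] [Module F V] [FiniteDimensional F V]
    (h2 : (2 : F) ≠ 0) (f : V →ₗ[F] V) (hf : ∀ x, f (f x) = x) :
    LinearMap.det f = (-1) ^ finrank F (Module.End.eigenspace f (-1)) := by
  have hc : IsCompl (Module.End.eigenspace f 1) (Module.End.eigenspace f (-1)) := by
    constructor
    · rw [Submodule.disjoint_def]
      intro x h1 h2'
      rw [Module.End.mem_eigenspace_iff] at h1 h2'
      rw [one_smul] at h1
      rw [h1, neg_one_smul] at h2'
      have : (2 : F) • x = 0 := by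
        rw [two_smul]
        nth_rewrite 2 [h2']
        exact add_neg_cancel x
      exact (smul_eq_zero.mp this).resolve_left h2
    · rw [codisjoint_iff, eq_top_iff]
      intro x _
      have e : x = (2 : F)⁻¹ • (x + f x) + (2 : F)⁻¹ • (x - f x) := by
        rw [← smul_add]
        have : x + f x + (x - f x) = (2 : F) • x := by rw [two_smul]; abel
        rw [this, smul_smul, inv_mul_cancel₀ h2, one_smul]
      rw [e]
      apply Submodule.add_mem_sup
      · apply Submodule.smul_mem
        rw [Module.End.mem_eigenspace_iff, map_add, hf, one_smul, add_comm]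
      · apply Submodule.smul_mem
        rw [Module.End.mem_eigenspace_iff, map_sub, hf, neg_one_smul, neg_sub]
  set e := Submodule.prodEquivOfIsCompl _ _ hc with he
  have hconj : f = (e : _ →ₗ[F] V) ∘ₗ
      (LinearMap.prodMap (LinearMap.id : Module.End.eigenspace f 1 →ₗ[F] _)
        ((-1 : F) • (LinearMap.id : Module.End.eigenspace f (-1) →ₗ[F] _))) ∘ₗ
      (e.symm : V →ₗ[F] _) := by
    apply LinearMap.ext
    intro x
    obtain ⟨⟨a, b⟩, rfl⟩ := e.surjective x
    simp only [LinearMap.comp_apply, LinearEquiv.coe_coe, LinearEquiv.symm_apply_apply,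
      LinearMap.prodMap_apply, LinearMap.id_apply, LinearMap.smul_apply]
    rw [he, Submodule.coe_prodEquivOfIsCompl', Submodule.coe_prodEquivOfIsCompl', map_add]
    have ha := a.2
    have hb := b.2
    rw [Module.End.mem_eigenspace_iff] at ha hb
    rw [ha, hb, one_smul]
    simp
  conv_lhs => rw [hconj]
  rw [LinearMap.det_conj, LinearMap.det_prodMap, LinearMap.det_id, LinearMap.det_smul,
    LinearMap.det_id, one_mul, mul_one]

variable {ι : Type} [Fintype ι] [DecidableEq ι] {F : Type*} [Field F]

/-- members of `omegaGL` have determinant one -/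
theorem det_eq_one_of_mem_omegaGL (D : (ι → F) → F) {g : GL ι F} (hg : g ∈ Cfsg.Geo.omegaGL D) :
    (g : Matrix ι ι F).det = 1 := by
  have hcomm : Cfsg.Geo.omegaGL D = ⁅Cfsg.isometryGroup F D, Cfsg.isometryGroup F D⁆ := by
    unfold Cfsg.Geo.omegaGL Cfsg.Omega
    rw [commutator_def, Subgroup.map_commutator]
    have : Subgroup.map (Cfsg.isometryGroup F D).subtype ⊤ = Cfsg.isometryGroup F D := by
      rw [← MonoidHom.range_eq_map, Subgroup.range_subtype]
    rw [this]
  rw [hcomm] at hg
  have hle : ⁅Cfsg.isometryGroup F D, Cfsg.isometryGroup F D⁆ ≤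
      (Matrix.GeneralLinearGroup.det : GL ι F →* Fˣ).ker := by
    refine le_trans (Subgroup.commutator_mono le_top le_top) ?_
    exact Abelianization.commutator_subset_ker _
  have h1 := hle hg
  rw [MonoidHom.mem_ker] at h1
  have h2 := congrArg (fun u : Fˣ => (u : F)) h1
  simpa using h2

/-- an involution of determinant one has an even-dimensional `(-1)`-eigenspace -/
theorem even_finrank_eig_neg (h2 : (2 : F) ≠ 0) {z : GL ι F} (hz : z * z = 1)
    (hdet : (z : Matrix ι ι F).det = 1) :
    Even (finrank F (Module.End.eigenspace (Matrix.toLin' (z : Matrix ι ι F)) (-1))) := by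
  have hinv : ∀ x, Matrix.toLin' (z : Matrix ι ι F) (Matrix.toLin' (z : Matrix ι ι F) x) = x := by
    intro x
    rw [Matrix.toLin'_apply, Matrix.toLin'_apply, Matrix.mulVec_mulVec, ← Units.val_mul, hz,
      Units.val_one, Matrix.one_mulVec]
  have h := det_of_involutive h2 (Matrix.toLin' (z : Matrix ι ι F)) hinv
  rw [LinearMap.det_toLin', hdet] at h
  by_contra hodd
  rw [Nat.not_even_iff_odd] at hodd
  rw [hodd.neg_one_pow] at h
  have : (2 : F) = 0 := by linear_combination h
  exact h2 this

end Cfsg.Agent.Lib.Helper5.F11.Par
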