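import Cfsg.Agent.Lib.Helper5.NDGlue

/-!
helper5, S5858 (`Ω₁₁(q)`, q odd): the wrapper `isMaximalIn_nd'` of `NDGlue` with `11 ≤ card ι` instead of `13 ≤ card ι`
(the larger of `W`, `W^⊥` still has dimension at least 6).
-/

set_option autoImplicit false
set_option linter.unusedSectionVars false
set_option linter.unusedVariables false
set_option linter.unusedSimpArgs false

namespace Cfsg.Agent.Lib.Helper5.F11.Nd

open Module QuadraticMap Matrix Cfsg.Agent.Lib.Helper25.CD Cfsg.Agent.Lib.Helper25.Spin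
  Cfsg.Agent.Lib.Helper25.Fam Cfsg.Agent.Lib.Helper25.Siegel
  Cfsg.Agent.Lib.Helper25.PS Cfsg.Agent.Lib.Helper25.OGeom Cfsg.Agent.Lib.Helper15
  Cfsg.Agent.Lib.Helper5.TSMax Cfsg.Agent.Lib.Helper5.NSMax Cfsg.Agent.Lib.Helper5.PairMax
  Cfsg.Agent.Lib.Helper5.NDMax

variable {ι : Type} [Fintype ι] [DecidableEq ι] {F : Type*} [Field F] [Fintype F]
  (Q : QuadraticForm F (ι → F))

/-- Maximality of the stabiliser of a nondegenerate subspace whose dimension differs from that of
its orthogonal complement, `11 ≤ card ι`. -/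
theorem isMaximalIn_nd11 (hQ : (polarBilin Q).Nondegenerate) (hcard : 11 ≤ Fintype.card ι)
    {W : Submodule F (ι → F)} (hW : NdOn Q W) (hW0 : W ≠ ⊥) (hW1 : W ≠ ⊤)
    (hdim : 2 * finrank F W ≠ Fintype.card ι)
    (hexc : ∀ U : Submodule F (ι → F), (U = W ∨ U = Cfsg.Agent.Lib.Helper25.MaxTS.perp Q W) →
      ¬ (Fintype.card F ≤ 3 ∧ finrank F U = 2 ∧ ∃ e ∈ U, e ≠ 0 ∧ Q e = 0)) :
    Cfsg.Geo.IsMaximalIn (Cfsg.Geo.omegaGL ⇑Q)
      (Cfsg.Geo.subspaceStabilizer W ⊓ Cfsg.Geo.omegaGL ⇑Q) := by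
  have hfr := Cfsg.Agent.Lib.Helper25.MaxTS.finrank_perp hQ W
  rw [Module.finrank_fintype_fun_eq_card] at hfr
  have hle : finrank F W ≤ Fintype.card ι := by
    have h := Submodule.finrank_le W
    rwa [Module.finrank_fintype_fun_eq_card] at h
  have hWlt : finrank F W < Fintype.card ι := by
    by_contra h
    apply hW1
    apply Submodule.eq_top_of_finrank_eq
    rw [Module.finrank_fintype_fun_eq_card]
    omega
  have hWpos : 0 < finrank F W := by
    rw [Nat.pos_iff_ne_zero]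
    intro h
    exact hW0 (Submodule.finrank_eq_zero.1 h)
  rcases Nat.lt_or_ge (finrank F (Cfsg.Agent.Lib.Helper25.MaxTS.perp Q W)) (finrank F W) with
    hlt | hge
  · exact isMaximalIn_nd Q hQ (by omega) (perp_orth Q W) (perp_disj Q hW) (perp_sup Q hQ hW)
      (by omega) (by
        intro h
        rw [h, finrank_bot] at hfr
        omega) (hexc _ (Or.inr rfl)) (fun g _ => not_map_into_of_finrank_lt Q hlt g)
  · have hlt : finrank F W < finrank F (Cfsg.Agent.Lib.Helper25.MaxTS.perp Q W) := by omega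
    have h := isMaximalIn_nd Q hQ (by omega) (W := Cfsg.Agent.Lib.Helper25.MaxTS.perp Q W)
      (W' := W) (fun x hx y hy => by rw [polar_comm]; exact perp_orth Q W y hy x hx)
      (by rw [inf_comm]; exact perp_disj Q hW) (by rw [sup_comm]; exact perp_sup Q hQ hW)
      (by omega) hW0 (hexc _ (Or.inl rfl)) (fun g _ => not_map_into_of_finrank_lt Q hlt g)
    rwa [stab_perp_inf_eq Q hQ] at h

end Cfsg.Agent.Lib.Helper5.F11.Nd
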