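import Mathlib
import Cfsg.Prelude.Def_ClassicalGeometry
import Cfsg.Prelude.Def_GeometricClasses
import Cfsg.Agent.Lib.Helper5.TSMax
import Cfsg.Agent.Lib.Helper11.Om11S.H19_OSubDefs
import Cfsg.Agent.Lib.Helper11.Om11S.H19_OSubBasic
import Cfsg.Agent.Lib.Helper11.Om11S.H19_OSubDescent
import Cfsg.Agent.Lib.Helper15.QuadClass
import Cfsg.Agent.Lib.Helper18.OSubGF
import Cfsg.Agent.Lib.Helper11.Om11S.H18_OSubF12

/-!
helper5, S5858 (subfield conjunct at n = 11), leaf AF: a rational frame of four hyperbolic pairs whose first plane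
contains a given rational NON-singular vector `p`.
-/

set_option autoImplicit false
set_option linter.unusedSectionVars false
set_option linter.unusedVariables false

namespace Cfsg.Agent.Lib.Helper5.F11.S11
open Cfsg Matrix QuadraticMap Module Cfsg.Agent.Lib.Helper25.Siegel Cfsg.Agent.Lib.Helper11.Om11S.Cfsg.Agent.Lib.Helper19.OSub
  Cfsg.Agent.Lib.Helper15 Cfsg.Agent.Lib.Helper11.Om11S.Cfsg.Agent.Lib.Helper18.OSubLeaf
  _root_.Cfsg.Agent.Lib.Helper18.OSubLeaf

variable {ι : Type} [Fintype ι] [DecidableEq ι] {F : Type*} [Field F] [Fintype F]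
  {F₀ : Subfield F} {Q : QuadraticForm F (ι → F)} {M : Subgroup (GL ι F)}

theorem Q_add' (x y : ι → F) : Q (x + y) = Q x + Q y + polar Q x y := by
  unfold polar; ring

/-- the hyperbolic pair through a non-singular vector `P` built from a hyperbolic pair `(E, G)` orthogonal to it -/
theorem pair_through {P E G : ι → F} (h2 : (2 : F) ≠ 0) (hc : Q P ≠ 0) (hE : Q E = 0) (hG : Q G = 0)
    (hEG : polar Q E G = 1) (hPE : polar Q P E = 0) (hPG : polar Q P G = 0) :
    Q (P + (E - Q P • G)) = 0 ∧ Q ((4 * Q P)⁻¹ • (P - (E - Q P • G))) = 0 ∧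
      polar Q (P + (E - Q P • G)) ((4 * Q P)⁻¹ • (P - (E - Q P • G))) = 1 ∧
      P = (2 : F)⁻¹ • (P + (E - Q P • G)) + (2 * Q P) • ((4 * Q P)⁻¹ • (P - (E - Q P • G))) := by
  set c := Q P with hcdef
  have h4 : (4 : F) ≠ 0 := by
    have : (4 : F) = 2 * 2 := by norm_num
    rw [this]; exact mul_ne_zero h2 h2
  have h4c : 4 * c ≠ 0 := mul_ne_zero h4 hc
  have hQu : Q (E - c • G) = -c := by
    have e : E - c • G = E + (-c) • G := by module
    rw [e, Q_add', QuadraticMap.map_smul, hE, hG, polar_smul_right, hEG]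
    simp
  have hPu : polar Q P (E - c • G) = 0 := by
    rw [polar_sub_right, polar_smul_right, hPE, hPG]; simp
  have huu : polar Q (E - c • G) (E - c • G) = 2 * -c := by
    rw [Cfsg.Agent.Lib.Helper25.MaxTS.polar_self, hQu]
  have hPP : polar Q P P = 2 * c := by
    rw [Cfsg.Agent.Lib.Helper25.MaxTS.polar_self]
  have hQm : Q (P - (E - c • G)) = 0 := by
    have e : P - (E - c • G) = P + (-1 : F) • (E - c • G) := by module
    rw [e, Q_add', QuadraticMap.map_smul, hQu, polar_smul_right, hPu]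
    simp
    ring
  obtain ⟨u, hu⟩ : ∃ u, u = E - c • G := ⟨_, rfl⟩
  rw [← hu] at hQu hPu huu hQm ⊢
  refine ⟨?_, ?_, ?_, ?_⟩
  · rw [Q_add', hQu, hPu]; ring
  · rw [QuadraticMap.map_smul, hQm, smul_zero]
  · rw [polar_smul_right, polar_add_left, polar_sub_right, polar_sub_right, hPP, hPu,
      polar_comm Q u P, hPu, huu, smul_eq_mul]
    field_simp
    ring
  · have e1 : (2 * c) * (4 * c)⁻¹ = (2 : F)⁻¹ := by
      field_simp
      ring
    rw [smul_smul, e1]
    have : (2 : F)⁻¹ • (P + u) + (2 : F)⁻¹ • (P - u) = ((2 : F)⁻¹ * 2) • P := by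
      module
    rw [this, inv_mul_cancel₀ h2, one_smul]

/-- AF: a rational frame of four hyperbolic pairs whose first plane contains the rational non-singular `p` -/
theorem exists_frame_through (h : QCtx F₀ Q) (h2 : (2 : F) ≠ 0) (hn : 11 ≤ Fintype.card ι) {p : ι → F}
    (hp : RatV F₀ p) (hQp : Q p ≠ 0) :
    ∃ fr : Frame F₀ Q 4, ∃ a b : F, p = a • fr.e 0 + b • fr.f 0 := by
  classical
  obtain ⟨p₀, rfl⟩ := exists_up hp
  set U : Submodule F₀ (ι → F₀) := Submodule.span F₀ (({p₀} : Finset (ι → F₀)) : Set (ι → F₀))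
    with hU
  have hUfr : finrank F₀ U ≤ 1 :=
    le_trans (finrank_span_finset_le_card _) (by rw [Finset.card_singleton])
  obtain ⟨W, hWnd, hWperp, hWfr⟩ := exists_nd_perp (Q0 h) (Q0_nondeg h) U
  have hnn : finrank F₀ (ι → F₀) = Fintype.card ι := Module.finrank_fintype_fun_eq_card F₀
  obtain ⟨e, f, heW, hfW, he, hf, hee, hff, hef⟩ :=
    exists_frame_in (Q0 h) 4 W hWnd (by omega)
  have hp₀U : p₀ ∈ U := Submodule.subset_span (by simp)
  -- lifted facts
  have QE : ∀ i, Q (up F₀ (e i)) = 0 := fun i => (Q0_eq_zero h _).mp (he i)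
  have QG : ∀ i, Q (up F₀ (f i)) = 0 := fun i => (Q0_eq_zero h _).mp (hf i)
  have EE : ∀ i j, polar Q (up F₀ (e i)) (up F₀ (e j)) = 0 :=
    fun i j => (polar_Q0_eq_zero h _ _).mp (hee i j)
  have GG : ∀ i j, polar Q (up F₀ (f i)) (up F₀ (f j)) = 0 :=
    fun i j => (polar_Q0_eq_zero h _ _).mp (hff i j)
  have EG1 : ∀ i, polar Q (up F₀ (e i)) (up F₀ (f i)) = 1 := fun i =>
    (polar_Q0_eq_one h _ _).mp (by rw [hef i i, if_pos rfl])
  have EG0 : ∀ i j, i ≠ j → polar Q (up F₀ (e i)) (up F₀ (f j)) = 0 := fun i j hij =>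
    (polar_Q0_eq_zero h _ _).mp (by rw [hef i j, if_neg hij])
  have PE : ∀ i, polar Q (up F₀ p₀) (up F₀ (e i)) = 0 := fun i =>
    (polar_Q0_eq_zero h _ _).mp (hWperp p₀ hp₀U _ (heW i))
  have PG : ∀ i, polar Q (up F₀ p₀) (up F₀ (f i)) = 0 := fun i =>
    (polar_Q0_eq_zero h _ _).mp (hWperp p₀ hp₀U _ (hfW i))
  set P := up F₀ p₀ with hP
  set c := Q P with hc
  have hcF : c ∈ F₀ := h.ratQ _ (ratV_up _)
  obtain ⟨k1, k2, k3, k4⟩ := pair_through h2 hQp (QE 0) (QG 0) (EG1 0) (PE 0) (PG 0)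
  set e₀ := P + (up F₀ (e 0) - c • up F₀ (f 0)) with he₀
  set f₀ := (4 * c)⁻¹ • (P - (up F₀ (e 0) - c • up F₀ (f 0))) with hf₀
  have h4cF : (4 * c)⁻¹ ∈ F₀ := by
    apply F₀.inv_mem
    apply F₀.mul_mem _ hcF
    have : (4 : F) = 1 + 1 + 1 + 1 := by norm_num
    rw [this]
    exact F₀.add_mem (F₀.add_mem (F₀.add_mem F₀.one_mem F₀.one_mem) F₀.one_mem) F₀.one_mem
  have re₀ : RatV F₀ e₀ :=
    ratV_add (ratV_up _) (ratV_sub (ratV_up _) (ratV_smul hcF (ratV_up _)))
  have rf₀ : RatV F₀ f₀ :=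
    ratV_smul h4cF (ratV_sub (ratV_up _) (ratV_sub (ratV_up _) (ratV_smul hcF (ratV_up _))))
  -- orthogonality of the new pair to the other pairs
  have e₀E : ∀ i, i ≠ 0 → polar Q e₀ (up F₀ (e i)) = 0 := by
    intro i hi
    rw [he₀, polar_add_left, polar_sub_left, polar_smul_left, PE i, EE 0 i,
      polar_comm Q (up F₀ (f 0)) (up F₀ (e i)), EG0 i 0 hi]
    simp
  have e₀G : ∀ i, i ≠ 0 → polar Q e₀ (up F₀ (f i)) = 0 := by
    intro i hi
    rw [he₀, polar_add_left, polar_sub_left, polar_smul_left, PG i, EG0 0 i (Ne.symm hi), GG 0 i]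
    simp
  have f₀E : ∀ i, i ≠ 0 → polar Q f₀ (up F₀ (e i)) = 0 := by
    intro i hi
    rw [hf₀, polar_smul_left, polar_sub_left, polar_sub_left, polar_smul_left, PE i, EE 0 i,
      polar_comm Q (up F₀ (f 0)) (up F₀ (e i)), EG0 i 0 hi]
    simp
  have f₀G : ∀ i, i ≠ 0 → polar Q f₀ (up F₀ (f i)) = 0 := by
    intro i hi
    rw [hf₀, polar_smul_left, polar_sub_left, polar_sub_left, polar_smul_left, PG i,
      EG0 0 i (Ne.symm hi), GG 0 i]
    simp
  have e₀e₀ : polar Q e₀ e₀ = 0 := polar_self_sing k1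
  have f₀f₀ : polar Q f₀ f₀ = 0 := polar_self_sing k2
  refine ⟨{ e := fun i => if i = 0 then e₀ else up F₀ (e i),
            f := fun i => if i = 0 then f₀ else up F₀ (f i),
            rat_e := ?_, rat_f := ?_, Qe := ?_, Qf := ?_, ee := ?_, ff := ?_, ef := ?_ },
    (2 : F)⁻¹, 2 * c, ?_⟩
  · intro i
    by_cases hi : i = 0
    · simp only [hi, if_true]; exact re₀
    · simp only [hi, if_false]; exact ratV_up _
  · intro i
    by_cases hi : i = 0
    · simp only [hi, if_true]; exact rf₀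
    · simp only [hi, if_false]; exact ratV_up _
  · intro i
    by_cases hi : i = 0
    · simp only [hi, if_true]; exact k1
    · simp only [hi, if_false]; exact QE i
  · intro i
    by_cases hi : i = 0
    · simp only [hi, if_true]; exact k2
    · simp only [hi, if_false]; exact QG i
  · intro i j
    by_cases hi : i = 0 <;> by_cases hj : j = 0
    · simp only [hi, hj, if_true]; exact e₀e₀
    · simp only [hi, hj, if_true, if_false]; exact e₀E j hj
    · simp only [hi, hj, if_true, if_false]; rw [polar_comm]; exact e₀E i hi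
    · simp only [hi, hj, if_false]; exact EE i j
  · intro i j
    by_cases hi : i = 0 <;> by_cases hj : j = 0
    · simp only [hi, hj, if_true]; exact f₀f₀
    · simp only [hi, hj, if_true, if_false]; exact f₀G j hj
    · simp only [hi, hj, if_true, if_false]; rw [polar_comm]; exact f₀G i hi
    · simp only [hi, hj, if_false]; exact GG i j
  · intro i j
    by_cases hi : i = 0 <;> by_cases hj : j = 0
    · simp only [hi, hj, if_true]; exact k3
    · simp only [hi, hj, if_true, if_false]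
      rw [if_neg (Ne.symm hj)]; exact e₀G j hj
    · simp only [hi, hj, if_true, if_false]
      rw [polar_comm]; exact f₀E i hi
    · simp only [hi, hj, if_false]
      by_cases hij : i = j
      · rw [if_pos hij, hij]; exact EG1 j
      · rw [if_neg hij]; exact EG0 i j hij
  · simp only [if_true]
    exact k4

end Cfsg.Agent.Lib.Helper5.F11.S11
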