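import Mathlib
import Cfsg.Prelude.Def_ClassicalGeometry
import Cfsg.Prelude.Def_GeometricClasses
import Cfsg.Agent.Lib.Helper5.TSMax
import Cfsg.Agent.Lib.Helper5.LSubC
import Cfsg.Agent.Lib.Helper11.Om11S.H19_OSubDefs
import Cfsg.Agent.Lib.Helper11.Om11S.H19_OSubBasic
import Cfsg.Agent.Lib.Helper11.Om11S.H19_OSubDescent
import Cfsg.Agent.Lib.Helper11.Om11S.H19_OSubEM
import Cfsg.Agent.Lib.Helper11.Om11S.H24_OSubG0
import Cfsg.Agent.Lib.Helper5.F11.S11AF
import Cfsg.Agent.Lib.Helper5.F11.S11Xp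

/-!
helper5, S5858 (subfield conjunct at n = 11): the ADAPTED ROUND of the dihedral trick.  If `z` is a rational involution of
`M` whose fixed space is a line `⟨p⟩` (so `z = -r_p`) and `g⁻¹ z g` is rational too, the two good involutions are chosen
THROUGH `p` resp. `g⁻¹ p` (they negate it), so that the `(-1)`-eigenspaces of `t` and `j = g t' g⁻¹` meet in `p` and
`Eig t 1 ⊔ Eig j 1 ≤ p^⊥`; the central involution of `⟨t, j⟩` then fixes a subspace of dimension `≥ n - 9`.
-/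

set_option autoImplicit false
set_option linter.unusedSectionVars false
set_option linter.unusedVariables false

namespace Cfsg.Agent.Lib.Helper5.F11.S11
open Cfsg Matrix QuadraticMap Module Cfsg.Agent.Lib.Helper25.Siegel Cfsg.Agent.Lib.Helper11.Om11S.Cfsg.Agent.Lib.Helper19.OSub
  Cfsg.Agent.Lib.Helper15
open scoped commutatorElement

variable {ι : Type} [Fintype ι] [DecidableEq ι] {F : Type*} [Field F] [Fintype F]
  {F₀ : Subfield F} {Q : QuadraticForm F (ι → F)} {M : Subgroup (GL ι F)}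

/-- the fixed line of a rational involution is spanned by a rational non-singular vector -/
theorem exists_rat_gen (h : QCtx F₀ Q) (h2 : (2 : F) ≠ 0) {z : GL ι F} (hz : RatInv F₀ Q z)
    (hz1 : finrank F (Eig z 1) = 1) :
    ∃ p : ι → F, RatV F₀ p ∧ Q p ≠ 0 ∧ mv z p = p ∧ ∀ v, mv z v = v → ∃ l : F, v = l • p := by
  obtain ⟨W, hWnd, hWz, hWfr⟩ :=
    Cfsg.Agent.Lib.Helper11.Om11S.Cfsg.Agent.Lib.Helper24.OSubLeaf19.exists_nd_eig h h2 hz (Or.inl rfl)
  have hWpos : 0 < finrank F₀ W := by omega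
  obtain ⟨u, hu0⟩ : ∃ u : W, u ≠ 0 := by
    by_contra hcon
    push Not at hcon
    have : Subsingleton W := ⟨fun a b => by rw [hcon a, hcon b]⟩
    have := Module.finrank_zero_of_subsingleton (R := F₀) (M := W)
    omega
  have hu0' : (u : ι → F₀) ≠ 0 := fun h0 => hu0 (Subtype.ext h0)
  have hp0 : up F₀ (u : ι → F₀) ≠ 0 := fun h0 => hu0' (up_eq_zero.mp h0)
  have hzp : mv z (up F₀ (u : ι → F₀)) = up F₀ (u : ι → F₀) := by
    rw [hWz _ u.2, one_smul]
  have hpE : up F₀ (u : ι → F₀) ∈ Eig z 1 := by rw [mem_Eig, one_smul]; exact hzp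
  have hspan : Eig z 1 = Submodule.span F {up F₀ (u : ι → F₀)} := by
    symm
    apply Submodule.eq_of_le_of_finrank_eq
    · rw [Submodule.span_singleton_le_iff_mem]; exact hpE
    · rw [finrank_span_singleton hp0, hz1]
  have hgen : ∀ v, mv z v = v → ∃ l : F, v = l • up F₀ (u : ι → F₀) := by
    intro v hv
    have hvE : v ∈ Eig z 1 := by rw [mem_Eig, one_smul]; exact hv
    rw [hspan, Submodule.mem_span_singleton] at hvE
    obtain ⟨l, hl⟩ := hvE
    exact ⟨l, hl.symm⟩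
  refine ⟨up F₀ (u : ι → F₀), ratV_up _, ?_, hzp, hgen⟩
  intro hQ0
  -- a partner in `W` with non-zero product
  have hex : ∃ w' ∈ W, polar (Q0 h) (u : ι → F₀) w' ≠ 0 := by
    by_contra hcon
    push Not at hcon
    exact hu0' (hWnd _ u.2 hcon)
  obtain ⟨w', hw'W, hw'⟩ := hex
  have hzw' : mv z (up F₀ w') = up F₀ w' := by rw [hWz _ hw'W, one_smul]
  obtain ⟨l, hl⟩ := hgen _ hzw'
  apply hw'
  rw [polar_Q0_eq_zero, hl, polar_smul_right, polar_self_sing hQ0, smul_zero]

/-- X4p: a good involution of rank 4 through the fixed line of `z` -/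
theorem exists_ginv4_p (h : QCtx F₀ Q) (h2 : (2 : F) ≠ 0) (hn : 11 ≤ Fintype.card ι) {z : GL ι F}
    (hz : RatInv F₀ Q z) (hz1 : finrank F (Eig z 1) = 1) :
    ∃ t, GInv F₀ Q t ∧ finrank F (Eig t (-1)) = 4 ∧ ∀ v, mv z v = v → mv t v = -v := by
  obtain ⟨p, hpr, hQp, hzp, hgen⟩ := exists_rat_gen h h2 hz hz1
  obtain ⟨fr, a, b, hpab⟩ := exists_frame_through h h2 hn hpr hQp
  have h01 : (0 : Fin 4) ≠ 1 := by decide
  have H := Cfsg.Agent.Lib.Helper11.Om11S.Cfsg.Agent.Lib.Helper23.OSubLeaf.frame_h4 fr h01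
  obtain ⟨t, htG, -, -, ht4, hte, htf⟩ := ginv4_of_frame_p h h2 (y := 1)
    (Subgroup.one_mem _) fr (fun i => ⟨mv_one _, mv_one _⟩)
    (fun x => Cfsg.Agent.Lib.Helper11.Om11S.Cfsg.Agent.Lib.Helper20.OSubLeaf.mv_inv4 H.Qe₀ H.Qf₀ H.Qe₁ H.Qf₁ H.e₀f₀ H.e₁f₁
      H.e₀e₁ H.f₀f₁ H.e₀f₁ H.e₁f₀ x)
  refine ⟨t, htG, ht4, ?_⟩
  intro v hv
  obtain ⟨l, rfl⟩ := hgen v hv
  rw [hpab, mv_smul, mv_add, mv_smul, mv_smul, hte, htf]
  module

/-- X6p: a good involution of rank 6 through the fixed line of `z` -/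
theorem exists_ginv6_p (h : QCtx F₀ Q) (h2 : (2 : F) ≠ 0) (hn : 11 ≤ Fintype.card ι)
    (G2 : ∀ {z : GL ι F}, RatInv F₀ Q z → 5 ≤ finrank F (Eig z 1) →
      ∃ d₁ d₁' d₂ d₂' : ι → F, HypPair F₀ Q d₁ d₁' ∧ HypPair F₀ Q d₂ d₂' ∧
        polar Q d₁ d₂ = 0 ∧ polar Q d₁ d₂' = 0 ∧ polar Q d₁' d₂ = 0 ∧ polar Q d₁' d₂' = 0 ∧
        mv z d₁ = (1 : F) • d₁ ∧ mv z d₁' = (1 : F) • d₁' ∧ mv z d₂ = (1 : F) • d₂ ∧
        mv z d₂' = (1 : F) • d₂')
    {z : GL ι F} (hz : RatInv F₀ Q z) (hz1 : finrank F (Eig z 1) = 1) :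
    ∃ t, GInv F₀ Q t ∧ finrank F (Eig t (-1)) = 6 ∧ ∀ v, mv z v = v → mv t v = -v := by
  obtain ⟨p, hpr, hQp, hzp, hgen⟩ := exists_rat_gen h h2 hz hz1
  obtain ⟨fr, a, b, hpab⟩ := exists_frame_through h h2 hn hpr hQp
  obtain ⟨t, htG, -, -, ht6, hte, htf⟩ := ginv6_of_frame_p h h2 G2 (y := 1)
    (Subgroup.one_mem _) fr (fun i => ⟨mv_one _, mv_one _⟩)
  refine ⟨t, htG, ht6, ?_⟩
  intro v hv
  obtain ⟨l, rfl⟩ := hgen v hv
  rw [hpab, mv_smul, mv_add, mv_smul, mv_smul, hte, htf]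
  module

/-- the adapted round, all needed leaves as hypotheses -/
theorem round_p_core
    (X4p : ∀ {z : GL ι F}, RatInv F₀ Q z → finrank F (Eig z 1) = 1 →
      ∃ t, GInv F₀ Q t ∧ finrank F (Eig t (-1)) = 4 ∧ ∀ v, mv z v = v → mv t v = -v)
    (X6p : ∀ {z : GL ι F}, RatInv F₀ Q z → finrank F (Eig z 1) = 1 →
      ∃ t, GInv F₀ Q t ∧ finrank F (Eig t (-1)) = 6 ∧ ∀ v, mv z v = v → mv t v = -v)
    (S : ∀ {t : GL ι F}, GInv F₀ Q t → ∀ {z : GL ι F}, z ∈ M → z * t = t * z →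
      z ∈ Cfsg.Geo.subfieldSubgroup F₀ (1 : GL ι F))
    (RA : ∀ {z : GL ι F}, z ∈ Cfsg.Geo.subfieldSubgroup F₀ (1 : GL ι F) → z * z = 1 →
      ∀ x, RatV F₀ x → RatV F₀ (mv z x))
    (EM1 : ∀ {z : GL ι F}, z * z = 1 →
      finrank F (Eig z 1) + finrank F (Eig z (-1)) = Fintype.card ι)
    (EM2 : ∀ (g z : GL ι F) (ε : F), finrank F (Eig (g * z * g⁻¹) ε) = finrank F (Eig z ε))
    (h : Ctx F₀ Q M) (h2 : (2 : F) ≠ 0) {g : GL ι F}
    (hg : g ∈ M) {y : GL ι F} (hy : RatInv F₀ Q y) (hy' : RatInv F₀ Q (g⁻¹ * y * g))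
    (hy1 : finrank F (Eig y 1) = 1) :
    ∃ z, z ∈ M ∧ RatInv F₀ Q z ∧ RatInv F₀ Q (g⁻¹ * z * g) ∧ z ≠ 1 ∧
      Fintype.card ι ≤ finrank F (Eig z 1) + 9 := by
  classical
  -- the involution t through the fixed line of y
  obtain ⟨t, htG, ht4, htneg⟩ := X4p hy hy1
  have hy1' : finrank F (Eig (g⁻¹ * y * g) 1) = 1 := by
    have e := EM2 g⁻¹ y 1
    rw [inv_inv] at e
    rw [e]; exact hy1
  obtain ⟨t', ht'G, ht'6, ht'neg⟩ := X6p hy' hy1'
  have htM : t ∈ M := h.le htG.mem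
  have ht'M : t' ∈ M := h.le ht'G.mem
  obtain ⟨j, hj⟩ : ∃ j : GL ι F, j = g * t' * g⁻¹ := ⟨_, rfl⟩
  have hjM : j ∈ M := by
    rw [hj]; exact M.mul_mem (M.mul_mem hg ht'M) (M.inv_mem hg)
  have htt : t * t = 1 := htG.sq
  have hjj : j * j = 1 := by
    rw [hj]
    calc g * t' * g⁻¹ * (g * t' * g⁻¹) = g * (t' * t') * g⁻¹ := by group
      _ = 1 := by rw [ht'G.sq, mul_one, mul_inv_cancel]
  have hj6 : finrank F (Eig j (-1)) = 6 := by
    rw [hj, EM2]; exact ht'6
  -- j negates the fixed line of y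
  have hjneg : ∀ v, mv y v = v → mv j v = -v := by
    intro v hv
    have h1 : mv (g⁻¹ * y * g) (mv g⁻¹ v) = mv g⁻¹ v := by
      rw [mv_mul, mv_mul, mv_mv_inv, hv]
    have h2' := ht'neg _ h1
    rw [hj, mv_mul, mv_mul, h2', mv_neg, mv_mv_inv]
  rcases Cfsg.Agent.Lib.Helper5.LSub.dihedral t j htt hjj with ⟨w, hw⟩ | ⟨m, hz1, hzz, hzt, hzj⟩
  · exfalso
    have e := EM2 w t (-1)
    rw [hw, hj6, ht4] at e
    omega
  · obtain ⟨z, hz⟩ : ∃ z : GL ι F, z = (t * j) ^ m := ⟨_, rfl⟩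
    rw [← hz] at hz1 hzz hzt hzj
    have hzM : z ∈ M := by
      rw [hz]; exact M.pow_mem (M.mul_mem htM hjM) m
    have hzS : z ∈ Cfsg.Geo.subfieldSubgroup F₀ (1 : GL ι F) := S htG hzM hzt
    have hziso : z ∈ Cfsg.isometryGroup F ⇑Q := omegaGL_le_iso (h.le_om hzM)
    have hzR : RatInv F₀ Q z := ⟨hzz, hziso, RA hzS hzz⟩
    -- the conjugate
    obtain ⟨z', hz'⟩ : ∃ z' : GL ι F, z' = g⁻¹ * z * g := ⟨_, rfl⟩
    have hz'M : z' ∈ M := by
      rw [hz']; exact M.mul_mem (M.mul_mem (M.inv_mem hg) hzM) hg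
    have hz'z' : z' * z' = 1 := by
      rw [hz']
      calc g⁻¹ * z * g * (g⁻¹ * z * g) = g⁻¹ * (z * z) * g := by group
        _ = 1 := by rw [hzz, mul_one, inv_mul_cancel]
    have hz't' : z' * t' = t' * z' := by
      rw [hz']
      have e1 : z * (g * t' * g⁻¹) = (g * t' * g⁻¹) * z := by rw [← hj]; exact hzj
      calc g⁻¹ * z * g * t' = g⁻¹ * (z * (g * t' * g⁻¹)) * g := by group
        _ = g⁻¹ * ((g * t' * g⁻¹) * z) * g := by rw [e1]
        _ = t' * (g⁻¹ * z * g) := by group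
    have hz'S : z' ∈ Cfsg.Geo.subfieldSubgroup F₀ (1 : GL ι F) := S ht'G hz'M hz't'
    have hz'iso : z' ∈ Cfsg.isometryGroup F ⇑Q := omegaGL_le_iso (h.le_om hz'M)
    have hz'R : RatInv F₀ Q z' := ⟨hz'z', hz'iso, RA hz'S hz'z'⟩
    -- dimension count
    have hdim : Fintype.card ι ≤ finrank F (Eig z 1) + 9 := by
      have hle : Eig t 1 ⊓ Eig j 1 ≤ Eig z 1 := by
        intro v hv
        rw [Submodule.mem_inf, mem_Eig, mem_Eig, one_smul] at hv
        rw [mem_Eig, one_smul]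
        have hp : ∀ k : ℕ, mv ((t * j) ^ k) v = v := by
          intro k
          induction k with
          | zero => rw [pow_zero, mv_one]
          | succ k ih => rw [pow_succ, mv_mul, mv_mul, hv.2, hv.1, ih]
        rw [hz]; exact hp m
      -- a non-zero vector of the fixed line of y
      obtain ⟨p, hpE, hp0⟩ : ∃ p ∈ Eig y 1, p ≠ 0 := by
        by_contra hcon
        push Not at hcon
        have : Eig y 1 = ⊥ := by
          rw [eq_bot_iff]
          intro x hx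
          rw [Submodule.mem_bot]
          exact hcon x hx
        rw [this, finrank_bot] at hy1
        omega
      have hyp : mv y p = p := by
        rw [mem_Eig, one_smul] at hpE; exact hpE
      have htp : mv t p = -p := htneg p hyp
      have hjp : mv j p = -p := hjneg p hyp
      have htiso : t ∈ Cfsg.isometryGroup F ⇑Q := omegaGL_le_iso (h.le_om htM)
      have hjiso : j ∈ Cfsg.isometryGroup F ⇑Q := omegaGL_le_iso (h.le_om hjM)
      -- fixed vectors of an isometry negating p are orthogonal to p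
      have horth : ∀ s : GL ι F, s ∈ Cfsg.isometryGroup F ⇑Q → mv s p = -p → ∀ x, mv s x = x →
          polar Q p x = 0 := by
        intro s hs hsp x hsx
        have e := iso_polar hs p x
        rw [hsp, hsx, polar_neg_left] at e
        have h2p : (2 : F) * polar Q p x = 0 := by linear_combination -e
        rcases mul_eq_zero.mp h2p with h0 | h0
        · exact absurd h0 h2
        · exact h0
      -- the functional `polar p`
      set φ : (ι → F) →ₗ[F] F := polarBilin Q p with hφ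
      have hφne : φ ≠ 0 := by
        intro h0
        apply hp0
        apply h.nd.1 p
        intro x
        have := LinearMap.congr_fun h0 x
        rw [hφ] at this
        simpa using this
      have hsup : Eig t 1 ⊔ Eig j 1 ≤ LinearMap.ker φ := by
        apply sup_le
        · intro x hx
          rw [mem_Eig, one_smul] at hx
          rw [LinearMap.mem_ker, hφ, polarBilin_apply_apply]
          exact horth t htiso htp x hx
        · intro x hx
          rw [mem_Eig, one_smul] at hx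
          rw [LinearMap.mem_ker, hφ, polarBilin_apply_apply]
          exact horth j hjiso hjp x hx
      have hker : finrank F (LinearMap.ker φ) + 1 = Fintype.card ι := by
        have hrn := LinearMap.finrank_range_add_finrank_ker φ
        rw [Module.finrank_fintype_fun_eq_card] at hrn
        have hrange : finrank F (LinearMap.range φ) = 1 := by
          have hsurj : LinearMap.range φ = ⊤ := by
            apply LinearMap.range_eq_top.mpr
            obtain ⟨x, hx⟩ : ∃ x, φ x ≠ 0 := by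
              by_contra hcon
              push Not at hcon
              exact hφne (LinearMap.ext hcon)
            intro c
            refine ⟨(c * (φ x)⁻¹) • x, ?_⟩
            rw [map_smul, smul_eq_mul, mul_assoc, inv_mul_cancel₀ hx, mul_one]
          rw [hsurj, finrank_top, Module.finrank_self]
        omega
      have h1 := EM1 htt
      have h2'' := EM1 hjj
      have h3 := Submodule.finrank_sup_add_finrank_inf_eq (Eig t 1) (Eig j 1)
      have h4 := Submodule.finrank_mono hsup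
      have h5 := Submodule.finrank_mono hle
      omega
    refine ⟨z, hzM, hzR, ?_, hz1, hdim⟩
    rw [← hz']; exact hz'R

end Cfsg.Agent.Lib.Helper5.F11.S11
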