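import Mathlib
import Cfsg.Prelude.Def_ClassicalGeometry
import Cfsg.Prelude.Def_GeometricClasses
import Cfsg.Agent.Lib.Helper11.Om11S.H19_OSubMain
import Cfsg.Agent.Lib.Helper5.F11.InvParity
import Cfsg.Agent.Lib.Helper5.F11.S11Rp

/-!
helper5, S5858 (subfield conjunct at n = 11): the hard case `[F : F₀] ≥ 3` in dimension 11 and the maximality of the
standard subfield subgroup: parity of `dim V_-(z)` (involutions of `Ω` have determinant one) + the adapted round.
-/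

set_option autoImplicit false
set_option linter.unusedSectionVars false
set_option linter.unusedVariables false

namespace Cfsg.Agent.Lib.Helper5.F11.S11
open Cfsg Matrix QuadraticMap Module Cfsg.Agent.Lib.Helper11.Om11S.Cfsg.Agent.Lib.Helper19.OSub

variable {ι : Type} [Fintype ι] [DecidableEq ι] {F : Type*} [Field F] [Fintype F]
  {F₀ : Subfield F} {Q : QuadraticForm F (ι → F)} {M : Subgroup (GL ι F)}

/-- involutions of `M ≤ Ω` have an even-dimensional `(-1)`-eigenspace -/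
theorem even_eig_neg (h : Ctx F₀ Q M) (h2 : (2 : F) ≠ 0) {z : GL ι F} (hzM : z ∈ M) (hzz : z * z = 1) :
    Even (finrank F (Eig z (-1))) :=
  Cfsg.Agent.Lib.Helper5.F11.Par.even_finrank_eig_neg h2 hzz
    (Cfsg.Agent.Lib.Helper5.F11.Par.det_eq_one_of_mem_omegaGL _ (h.le_om hzM))

/-- the adapted round -/
theorem round_p (h : Ctx F₀ Q M) (h2 : (2 : F) ≠ 0) (hr3 : 3 ≤ Module.finrank F₀ F)
    (hn : 11 ≤ Fintype.card ι) {g : GL ι F}
    (hg : g ∈ M) {y : GL ι F} (hy : RatInv F₀ Q y) (hy' : RatInv F₀ Q (g⁻¹ * y * g))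
    (hy1 : finrank F (Eig y 1) = 1) :
    ∃ z, z ∈ M ∧ RatInv F₀ Q z ∧ RatInv F₀ Q (g⁻¹ * z * g) ∧ z ≠ 1 ∧
      Fintype.card ι ≤ finrank F (Eig z 1) + 9 :=
  round_p_core
    (fun hz hz1 => exists_ginv4_p h.toQCtx h2 hn hz hz1)
    (fun hz hz1 => exists_ginv6_p h.toQCtx h2 hn
      (fun hz h5 => exists_pairs_eig h.toQCtx h2 hz (Or.inl rfl) h5) hz hz1)
    (fun ht _ hz hc => stab h ht hz hc) (fun hz hzz => ratact h.prime hr3 hz hzz)
    (fun hz => finrank_eig_add h2 hz) finrank_eig_conj h h2 hg hy hy' hy1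

/-- the second stage: a rational involution `y ∈ M` with rational conjugate and `dim V_-(y) = 2` -/
theorem stage_two (h : Ctx F₀ Q M) (h2 : (2 : F) ≠ 0) (hr3 : 3 ≤ Module.finrank F₀ F)
    (hn : Fintype.card ι = 11) {g : GL ι F} (hg : g ∈ M) {y : GL ι F} (hyM : y ∈ M)
    (hy : RatInv F₀ Q y) (hy' : RatInv F₀ Q (g⁻¹ * y * g)) (hk : finrank F (Eig y (-1)) = 2) :
    g ∈ Cfsg.Geo.subfieldSubgroup F₀ (1 : GL ι F) := by
  obtain ⟨z, hzM, hz, hz', hz1, hzy, hd, hfix⟩ := round h h2 hr3 hg hy hy' (by omega)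
  have hadd := finrank_eig_add h2 hz.sq
  have hk1 := eig_neg_ne_bot h2 hz.sq hz1
  obtain ⟨r, hr⟩ := even_eig_neg h h2 hzM hz.sq
  have hmul := finrank_eig_mul h2 hy.sq hz.sq hzy hd
  have hle : finrank F (Eig (y * z) (-1)) ≤ Fintype.card ι := by
    have := Submodule.finrank_le (Eig (y * z) (-1))
    rwa [Module.finrank_fintype_fun_eq_card] at this
  by_cases hz3 : 3 ≤ finrank F (Eig z (-1))
  · exact endgame h h2 hg hz hz' hz3 (by omega)
  · have hyz : RatInv F₀ Q (y * z) := ratInv_mul hy hz hzy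
    have e : g⁻¹ * (y * z) * g = (g⁻¹ * y * g) * (g⁻¹ * z * g) := by group
    have hc' : g⁻¹ * z * g * (g⁻¹ * y * g) = g⁻¹ * y * g * (g⁻¹ * z * g) := by
      calc g⁻¹ * z * g * (g⁻¹ * y * g) = g⁻¹ * (z * y) * g := by group
        _ = g⁻¹ * (y * z) * g := by rw [hzy]
        _ = g⁻¹ * y * g * (g⁻¹ * z * g) := by group
    have hyz' : RatInv F₀ Q (g⁻¹ * (y * z) * g) := by
      rw [e]
      exact ratInv_mul hy' hz' hc'
    exact endgame h h2 hg hyz hyz' (by omega) (by omega)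

/-- A11: the hard case in dimension 11 -/
theorem hard_case11 (h : Ctx F₀ Q M) (h2 : (2 : F) ≠ 0) (hr3 : 3 ≤ Module.finrank F₀ F)
    (hn : Fintype.card ι = 11) {g : GL ι F} (hg : g ∈ M) :
    g ∈ Cfsg.Geo.subfieldSubgroup F₀ (1 : GL ι F) := by
  have h1 : RatInv F₀ Q (g⁻¹ * 1 * g) := by
    have : g⁻¹ * 1 * g = 1 := by group
    rw [this]
    exact ratInv_one
  obtain ⟨z, hzM, hz, hz', hz1, -, -, hfix⟩ :=
    round h h2 hr3 hg ratInv_one h1 (by rw [eig_one_neg h2]; omega)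
  have hadd := finrank_eig_add h2 hz.sq
  have hk1 := eig_neg_ne_bot h2 hz.sq hz1
  obtain ⟨r, hr⟩ := even_eig_neg h h2 hzM hz.sq
  by_cases hz3 : 3 ≤ finrank F (Eig z (-1))
  · by_cases hz8 : finrank F (Eig z (-1)) + 3 ≤ Fintype.card ι
    · exact endgame h h2 hg hz hz' hz3 hz8
    · -- `dim V_-(z) = 10`: the adapted round
      have hz11 : finrank F (Eig z 1) = 1 := by omega
      obtain ⟨w, hwM, hw, hw', hw1, hwfix⟩ := round_p h h2 hr3 (by omega) hg hz hz' hz11
      have hwadd := finrank_eig_add h2 hw.sq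
      have hwk1 := eig_neg_ne_bot h2 hw.sq hw1
      obtain ⟨s, hs⟩ := even_eig_neg h h2 hwM hw.sq
      by_cases hw3 : 3 ≤ finrank F (Eig w (-1))
      · exact endgame h h2 hg hw hw' hw3 (by omega)
      · exact stage_two h h2 hr3 hn hg hwM hw hw' (by omega)
  · exact stage_two h h2 hr3 hn hg hzM hz hz' (by omega)

/-- the standard subfield subgroup is maximal in `Ω(Q)`, odd characteristic, dimension 11 -/
theorem maximal_std11 (h : QCtx F₀ Q) (h2 : (2 : F) ≠ 0) (hp : (Module.finrank F₀ F).Prime)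
    (hn : Fintype.card ι = 11) :
    Cfsg.Geo.IsMaximalIn (Cfsg.Geo.omegaGL ⇑Q) (H0 F₀ Q) := by
  refine ⟨H0_lt h hp.two_le, fun M hHM hMS => ?_⟩
  by_cases hM : Cfsg.Geo.omegaGL ⇑Q ≤ M
  · exact Or.inr (le_antisymm hMS hM)
  · left
    have hctx : Ctx F₀ Q M := { toQCtx := h, le := hHM, le_om := hMS, ne := hM, prime := hp }
    apply le_antisymm _ hHM
    intro g hg
    refine Subgroup.mem_inf.mpr ⟨?_, hMS hg⟩
    rcases Nat.lt_or_ge (Module.finrank F₀ F) 3 with h3 | h3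
    · have : Module.finrank F₀ F = 2 := by have := hp.two_le; omega
      exact easy_case hctx this hg
    · exact hard_case11 hctx h2 h3 hn hg

end Cfsg.Agent.Lib.Helper5.F11.S11
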