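import Mathlib
import Cfsg.Prelude.Def_ClassicalGeometry
import Cfsg.Prelude.Def_GeometricClasses
import Cfsg.Agent.Lib.Helper5.TSMax
import Cfsg.Agent.Lib.Helper11.Om11S.H19_OSubDefs
import Cfsg.Agent.Lib.Helper11.Om11S.H19_OSubBasic
import Cfsg.Agent.Lib.Helper11.Om11S.H19_OSubEM
import Cfsg.Agent.Lib.Helper11.Om11S.H20_OSubI4
import Cfsg.Agent.Lib.Helper11.Om11S.H23_OSubX4c
import Cfsg.Agent.Lib.Helper11.Om11S.H23_OSubX6c

/-!
helper5, S5858 (subfield conjunct at n = 11), leaves X4p / X6p (cores): helper23's `ginv4_of_frame` / `ginv6_of_frame`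
with the extra information that the good involution negates the first hyperbolic pair of the frame.
-/

set_option autoImplicit false
set_option linter.unusedSectionVars false
set_option linter.unusedVariables false

namespace Cfsg.Agent.Lib.Helper5.F11.S11
open Cfsg Matrix QuadraticMap Module Cfsg.Agent.Lib.Helper25.Siegel Cfsg.Agent.Lib.Helper11.Om11S.Cfsg.Agent.Lib.Helper19.OSub
  Cfsg.Agent.Lib.Helper25.CD Cfsg.Agent.Lib.Helper11.Om11S.Cfsg.Agent.Lib.Helper23.OSubLeaf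
open scoped commutatorElement

variable {ι : Type} [Fintype ι] [DecidableEq ι] {F : Type*} [Field F] [Fintype F]
  {F₀ : Subfield F} {Q : QuadraticForm F (ι → F)} {M : Subgroup (GL ι F)}

/-- X4 core: the involution `inv4` of the first two pairs of a rational frame fixed by `y` is good -/
theorem ginv4_of_frame_p (h : QCtx F₀ Q) (h2 : (2 : F) ≠ 0) {y : GL ι F}
    (hy : y ∈ Cfsg.isometryGroup F ⇑Q) (fr : Frame F₀ Q 4)
    (hfix : ∀ i, mv y (fr.e i) = fr.e i ∧ mv y (fr.f i) = fr.f i)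
    (hI4 : ∀ x, mv (inv4 Q (fr.e 0) (fr.f 0) (fr.e 1) (fr.f 1)) x =
      x - (2 : F) • (polar Q (fr.f 0) x • fr.e 0 + polar Q (fr.e 0) x • fr.f 0 +
        polar Q (fr.f 1) x • fr.e 1 + polar Q (fr.e 1) x • fr.f 1)) :
    ∃ t, GInv F₀ Q t ∧ t * y = y * t ∧ (∀ v, mv y v = -v → mv t v = v) ∧
      finrank F (Eig t (-1)) = 4 ∧ mv t (fr.e 0) = -fr.e 0 ∧ mv t (fr.f 0) = -fr.f 0 := by
  have h01 : (0 : Fin 4) ≠ 1 := by decide
  have H := frame_h4 fr h01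
  have ht : ∀ x, mv (inv4 Q (fr.e 0) (fr.f 0) (fr.e 1) (fr.f 1)) x =
      x - (2 : F) • hp4 Q (fr.e 0) (fr.f 0) (fr.e 1) (fr.f 1) x := hI4
  have hpair : ∀ i : Fin 4, HypPair F₀ Q (fr.e i) (fr.f i) := fun i =>
    ⟨fr.rat_e i, fr.rat_f i, fr.Qe i, fr.Qf i, by rw [fr.ef, if_pos rfl]⟩
  have hfe : ∀ i j : Fin 4, i ≠ j → polar Q (fr.f i) (fr.e j) = 0 := fun i j hij => by
    rw [polar_comm, fr.ef, if_neg hij.symm]
  refine ⟨inv4 Q (fr.e 0) (fr.f 0) (fr.e 1) (fr.f 1), ⟨?_, H.sq ht, ?_, ?_⟩,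
    H.comm ht hy (hfix 0).1 (hfix 0).2 (hfix 1).1 (hfix 1).2,
    fun v hv => H.fix_of_neg h2 ht hy (hfix 0).1 (hfix 0).2 (hfix 1).1 (hfix 1).2 hv,
    H.finrank_eig_neg h2 ht, ?_, ?_⟩
  · unfold inv4
    have ha := rt_mem_H0 h (fr.rat_e 0) (fr.rat_e 1) (c := 1) F₀.one_mem
    have hb := rt_mem_H0 h (fr.rat_f 0) (fr.rat_f 1) (c := 1) F₀.one_mem
    exact Subgroup.pow_mem _ (Subgroup.mul_mem _ (Subgroup.mul_mem _ ha hb) ha) 2
  · refine ⟨fr.e 0, (-(1 / 2 : F)) • fr.e 0, fr.rat_e 0, ?_, fr.Qe 0, ?_⟩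
    · intro h0
      have := H.e₀f₀
      rw [h0, polar_zero_left] at this
      exact zero_ne_one this
    · rw [ht, hp4_smul, H.hp4_e₀]
      have e : (-(1 / 2 : F)) • fr.e 0 - (2 : F) • (-(1 / 2 : F)) • fr.e 0 - (-(1 / 2 : F)) • fr.e 0 =
          ((2 : F) * (1 / 2)) • fr.e 0 := by module
      rw [e, mul_one_div_cancel h2, one_smul]
  · have h02 : (0 : Fin 4) ≠ 2 := by decide
    have h03 : (0 : Fin 4) ≠ 3 := by decide
    have h12 : (1 : Fin 4) ≠ 2 := by decide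
    have h13 : (1 : Fin 4) ≠ 3 := by decide
    have h23 : (2 : Fin 4) ≠ 3 := by decide
    refine ⟨fr.e 2, fr.f 2, fr.e 3, fr.f 3, hpair 2, hpair 3, fr.ee 2 3, ?_, ?_, fr.ff 2 3, ?_⟩
    · rw [fr.ef, if_neg h23]
    · rw [hfe 2 3 h23]
    · intro v
      refine ⟨H.polar_sub ht (fr.ee 0 2) (hfe 0 2 h02) (fr.ee 1 2) (hfe 1 2 h12) v,
        H.polar_sub ht ?_ (fr.ff 0 2) ?_ (fr.ff 1 2) v,
        H.polar_sub ht (fr.ee 0 3) (hfe 0 3 h03) (fr.ee 1 3) (hfe 1 3 h13) v,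
        H.polar_sub ht ?_ (fr.ff 0 3) ?_ (fr.ff 1 3) v⟩
      · rw [fr.ef, if_neg h02]
      · rw [fr.ef, if_neg h12]
      · rw [fr.ef, if_neg h03]
      · rw [fr.ef, if_neg h13]
  · rw [ht, H.hp4_e₀]; module
  · rw [ht, H.hp4_f₀]; module

/-- X6 core: `inv4` of the first two pairs times the two reflections in `e₂+f₂`, `e₃+f₃` -/
theorem ginv6_of_frame_p (h : QCtx F₀ Q) (h2 : (2 : F) ≠ 0)
    (G2 : ∀ {z : GL ι F}, RatInv F₀ Q z → 5 ≤ finrank F (Eig z 1) →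
      ∃ d₁ d₁' d₂ d₂' : ι → F, HypPair F₀ Q d₁ d₁' ∧ HypPair F₀ Q d₂ d₂' ∧
        polar Q d₁ d₂ = 0 ∧ polar Q d₁ d₂' = 0 ∧ polar Q d₁' d₂ = 0 ∧ polar Q d₁' d₂' = 0 ∧
        mv z d₁ = (1 : F) • d₁ ∧ mv z d₁' = (1 : F) • d₁' ∧ mv z d₂ = (1 : F) • d₂ ∧
        mv z d₂' = (1 : F) • d₂')
    {y : GL ι F} (hy : y ∈ Cfsg.isometryGroup F ⇑Q) (fr : Frame F₀ Q 4)
    (hfix : ∀ i, mv y (fr.e i) = fr.e i ∧ mv y (fr.f i) = fr.f i) :
    ∃ t, GInv F₀ Q t ∧ t * y = y * t ∧ (∀ v, mv y v = -v → mv t v = v) ∧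
      finrank F (Eig t (-1)) = 6 ∧ mv t (fr.e 0) = -fr.e 0 ∧ mv t (fr.f 0) = -fr.f 0 := by
  have hn := h.card
  have h01 : (0 : Fin 4) ≠ 1 := by decide
  have h02 : (0 : Fin 4) ≠ 2 := by decide
  have h03 : (0 : Fin 4) ≠ 3 := by decide
  have h12 : (1 : Fin 4) ≠ 2 := by decide
  have h13 : (1 : Fin 4) ≠ 3 := by decide
  have h23 : (2 : Fin 4) ≠ 3 := by decide
  have H := frame_h4 fr h01
  have hef : ∀ i j : Fin 4, i ≠ j → polar Q (fr.e i) (fr.f j) = 0 := fun i j hij => by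
    rw [fr.ef, if_neg hij]
  have hfe : ∀ i j : Fin 4, i ≠ j → polar Q (fr.f i) (fr.e j) = 0 := fun i j hij => by
    rw [polar_comm, fr.ef, if_neg hij.symm]
  have hii : ∀ i : Fin 4, polar Q (fr.e i) (fr.f i) = 1 := fun i => by rw [fr.ef, if_pos rfl]
  -- the two norm one vectors
  obtain ⟨a, ha⟩ : ∃ a, a = fr.e 2 + fr.f 2 := ⟨_, rfl⟩
  obtain ⟨b, hb⟩ : ∃ b, b = fr.e 3 + fr.f 3 := ⟨_, rfl⟩
  have S : N2 Q a b := by
    refine ⟨?_, ?_, ?_⟩
    · rw [ha, QuadraticMap.map_add Q, fr.Qe, fr.Qf, hii]; ring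
    · rw [hb, QuadraticMap.map_add Q, fr.Qe, fr.Qf, hii]; ring
    · rw [ha, hb, polar_add_left, polar_add_right, polar_add_right, fr.ee, hef 2 3 h23,
        hfe 2 3 h23, fr.ff]
      ring
  have hRa : RatV F₀ a := by rw [ha]; exact ratV_add (fr.rat_e 2) (fr.rat_f 2)
  have hRb : RatV F₀ b := by rw [hb]; exact ratV_add (fr.rat_e 3) (fr.rat_f 3)
  have hya : mv y a = a := by rw [ha, mv_add, (hfix 2).1, (hfix 2).2]
  have hyb : mv y b = b := by rw [hb, mv_add, (hfix 3).1, (hfix 3).2]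
  -- orthogonality of a, b to the first two pairs
  have ha0 : polar Q a (fr.e 0) = 0 := by
    rw [ha, polar_add_left, fr.ee, hfe 2 0 h02.symm, add_zero]
  have ha1 : polar Q a (fr.f 0) = 0 := by
    rw [ha, polar_add_left, hef 2 0 h02.symm, fr.ff, add_zero]
  have ha2 : polar Q a (fr.e 1) = 0 := by
    rw [ha, polar_add_left, fr.ee, hfe 2 1 h12.symm, add_zero]
  have ha3 : polar Q a (fr.f 1) = 0 := by
    rw [ha, polar_add_left, hef 2 1 h12.symm, fr.ff, add_zero]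
  have hb0 : polar Q b (fr.e 0) = 0 := by
    rw [hb, polar_add_left, fr.ee, hfe 3 0 h03.symm, add_zero]
  have hb1 : polar Q b (fr.f 0) = 0 := by
    rw [hb, polar_add_left, hef 3 0 h03.symm, fr.ff, add_zero]
  have hb2 : polar Q b (fr.e 1) = 0 := by
    rw [hb, polar_add_left, fr.ee, hfe 3 1 h13.symm, add_zero]
  have hb3 : polar Q b (fr.f 1) = 0 := by
    rw [hb, polar_add_left, hef 3 1 h13.symm, fr.ff, add_zero]
  -- the two involutions
  obtain ⟨t4, ht4⟩ : ∃ t4, t4 = inv4 Q (fr.e 0) (fr.f 0) (fr.e 1) (fr.f 1) := ⟨_, rfl⟩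
  have ht : ∀ x, mv t4 x = x - (2 : F) • hp4 Q (fr.e 0) (fr.f 0) (fr.e 1) (fr.f 1) x := by
    intro x
    rw [ht4]
    exact Cfsg.Agent.Lib.Helper11.Om11S.Cfsg.Agent.Lib.Helper20.OSubLeaf.mv_inv4 H.Qe₀ H.Qf₀ H.Qe₁ H.Qf₁ H.e₀f₀ H.e₁f₁
      H.e₀e₁ H.f₀f₁ H.e₀f₁ H.e₁f₀ x
  obtain ⟨s, hs⟩ : ∃ s, s = rr Q a b := ⟨_, rfl⟩
  have hs0 : mv s (fr.e 0) = fr.e 0 := by rw [hs]; exact S.fix_of_perp ha0 hb0
  have hs1 : mv s (fr.f 0) = fr.f 0 := by rw [hs]; exact S.fix_of_perp ha1 hb1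
  have hs2 : mv s (fr.e 1) = fr.e 1 := by rw [hs]; exact S.fix_of_perp ha2 hb2
  have hs3 : mv s (fr.f 1) = fr.f 1 := by rw [hs]; exact S.fix_of_perp ha3 hb3
  have hsiso : s ∈ Cfsg.isometryGroup F ⇑Q := by rw [hs]; exact S.rr_mem_iso
  have hcomm : t4 * s = s * t4 := H.comm ht hsiso hs0 hs1 hs2 hs3
  have ht4sq : t4 * t4 = 1 := H.sq ht
  have hssq : s * s = 1 := by rw [hs]; exact S.sq
  have htsq : (t4 * s) * (t4 * s) = 1 := by
    calc (t4 * s) * (t4 * s) = t4 * (s * t4) * s := by group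
      _ = t4 * (t4 * s) * s := by rw [hcomm]
      _ = (t4 * t4) * (s * s) := by group
      _ = 1 := by rw [ht4sq, hssq, one_mul]
  have ht4rat : ∀ x, RatV F₀ x → RatV F₀ (mv t4 x) := by
    intro x hx
    rw [ht]
    exact ratV_sub hx (ratV_smul (F₀.add_mem F₀.one_mem F₀.one_mem |> fun h' => by
      have e : (2 : F) = 1 + 1 := by norm_num
      rw [e]; exact h')
      (ratV_hp4 h (fr.rat_e 0) (fr.rat_f 0) (fr.rat_e 1) (fr.rat_f 1) hx))
  have hsrat : ∀ x, RatV F₀ x → RatV F₀ (mv s x) := by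
    intro x hx
    rw [hs]
    exact S.rat h hRa hRb hx
  have htrat : ∀ x, RatV F₀ x → RatV F₀ (mv (t4 * s) x) := by
    intro x hx
    rw [mv_mul]
    exact ht4rat _ (hsrat x hx)
  have ht4H0 : t4 ∈ H0 F₀ Q := by
    rw [ht4]
    unfold inv4
    have hA := rt_mem_H0 h (fr.rat_e 0) (fr.rat_e 1) (c := 1) F₀.one_mem
    have hB := rt_mem_H0 h (fr.rat_f 0) (fr.rat_f 1) (c := 1) F₀.one_mem
    exact Subgroup.pow_mem _ (Subgroup.mul_mem _ (Subgroup.mul_mem _ hA hB) hA) 2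
  have hsH0 : s ∈ H0 F₀ Q := by
    refine Subgroup.mem_inf.mpr ⟨?_, ?_⟩
    · apply mem_sub1_of_maps F₀ one_ne_zero
      intro x hx
      exact ⟨mv s x, hsrat x hx, (one_smul _ _).symm⟩
    · rw [hs]
      exact S.rr_mem_omega h2 h.nd (by omega)
  have htH0 : t4 * s ∈ H0 F₀ Q := Subgroup.mul_mem _ ht4H0 hsH0
  have htiso : t4 * s ∈ Cfsg.isometryGroup F ⇑Q := omegaGL_le_iso (Subgroup.mem_inf.mp htH0).2
  have htRI : RatInv F₀ Q (t4 * s) := ⟨htsq, htiso, htrat⟩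
  -- the rank
  have hrank : finrank F (Eig (t4 * s) (-1)) = 6 := by
    rw [finrank_eig_mul h2 ht4sq hssq hcomm.symm, H.finrank_eig_neg h2 ht, hs,
      S.finrank_eig_neg h2]
    intro v hv
    rw [ht] at hv
    have hv' : hp4 Q (fr.e 0) (fr.f 0) (fr.e 1) (fr.f 1) v = v := by
      have e : (2 : F) • hp4 Q (fr.e 0) (fr.f 0) (fr.e 1) (fr.f 1) v = (2 : F) • v := by
        have e2 : (2 : F) • v = v - -v := by module
        rw [e2, ← hv]
        abel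
      exact smul_right_injective _ h2 e
    rw [hs]
    apply S.fix_of_perp
    · rw [← hv']; exact polar_hp4_of_perp ha0 ha1 ha2 ha3 v
    · rw [← hv']; exact polar_hp4_of_perp hb0 hb1 hb2 hb3 v
  have hadd := finrank_eig_add h2 htsq
  obtain ⟨d₁, d₁', d₂, d₂', hp1, hp2, e1, e2, e3, e4, k1, k2, k3, k4⟩ := G2 htRI (by omega)
  rw [one_smul] at k1 k2 k3 k4
  have hperp : ∀ d, mv (t4 * s) d = d → ∀ v, polar Q (mv (t4 * s) v - v) d = 0 := by
    intro d hd v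
    rw [polar_sub_left]
    conv_lhs => rw [← hd]
    rw [iso_polar htiso, hd, sub_self]
  refine ⟨t4 * s, ⟨htH0, htsq, ?_, ?_⟩, ?_, ?_, hrank, ?_, ?_⟩
  · refine ⟨fr.e 0, (-(1 / 2 : F)) • fr.e 0, fr.rat_e 0, ?_, fr.Qe 0, ?_⟩
    · intro h0
      have := H.e₀f₀
      rw [h0, polar_zero_left] at this
      exact zero_ne_one this
    · rw [mv_mul, mv_smul, hs0, ht, hp4_smul, H.hp4_e₀]
      have e : (-(1 / 2 : F)) • fr.e 0 - (2 : F) • (-(1 / 2 : F)) • fr.e 0 - (-(1 / 2 : F)) • fr.e 0 =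
          ((2 : F) * (1 / 2)) • fr.e 0 := by module
      rw [e, mul_one_div_cancel h2, one_smul]
  · exact ⟨d₁, d₁', d₂, d₂', hp1, hp2, e1, e2, e3, e4, fun v =>
      ⟨hperp d₁ k1 v, hperp d₁' k2 v, hperp d₂ k3 v, hperp d₂' k4 v⟩⟩
  · have c1 : t4 * y = y * t4 := H.comm ht hy (hfix 0).1 (hfix 0).2 (hfix 1).1 (hfix 1).2
    have c2 : s * y = y * s := by rw [hs]; exact S.comm hy hya hyb
    calc t4 * s * y = t4 * (s * y) := by group
      _ = t4 * (y * s) := by rw [c2]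
      _ = (t4 * y) * s := by group
      _ = (y * t4) * s := by rw [c1]
      _ = y * (t4 * s) := by group
  · intro v hv
    have key : ∀ d : ι → F, mv y d = d → polar Q d v = 0 := by
      intro d hd
      have h1 : polar Q d v = polar Q d (-v) := by
        conv_lhs => rw [← iso_polar hy d v, hd, hv]
      rw [polar_neg_right] at h1
      have h3 : (2 : F) * polar Q d v = 0 := by linear_combination h1
      exact (mul_eq_zero.1 h3).resolve_left h2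
    rw [mv_mul, hs, S.fix_of_perp (key a hya) (key b hyb)]
    exact H.fix_of_neg h2 ht hy (hfix 0).1 (hfix 0).2 (hfix 1).1 (hfix 1).2 hv
  · rw [mv_mul, hs0, ht, H.hp4_e₀]; module
  · rw [mv_mul, hs1, ht, H.hp4_f₀]; module

end Cfsg.Agent.Lib.Helper5.F11.S11
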